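import Mathlib
import Groth.Agent.Lib.Helper7.GenFlat.Main
import Groth.Agent.Lib.Lead.FlatLoc13

set_option autoImplicit false
set_option linter.style.haveILetI false
set_option linter.unusedVariables false
set_option linter.unusedSectionVars false
set_option backward.isDefEq.respectTransparency.types false

open CategoryTheory CategoryTheory.Limits AlgebraicGeometry Opposite Topology TopologicalSpace

universe u

/-! helper7: generic flatness of a quasi-compact morphism locally of finite type to an integral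
scheme, stated for the maps on stalks: the morphism is flat at all points over a neighbourhood of
the generic point (via generic freeness over a domain). -/

namespace Groth.Agent.Helper7.FibEt

open Groth.Agent.Helper9.GenFree

/-- generic flatness on one affine chart, in terms of the maps on stalks. -/
theorem exists_ne_zero_forall_flat_stalkMap {X Y : Scheme.{u}} (f : X ⟶ Y)
    [LocallyOfFiniteType f] {W : X.Opens} {V : Y.Opens} (hW : IsAffineOpen W)
    (hV : IsAffineOpen V) (hWV : W ≤ f ⁻¹ᵁ V) [IsDomain Γ(Y, V)] :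
    ∃ a : Γ(Y, V), a ≠ 0 ∧ ∀ x : X, x ∈ W → f x ∈ Y.basicOpen a →
      (f.stalkMap x).hom.Flat := by
  letI alg : Algebra Γ(Y, V) Γ(X, W) := (f.appLE V W hWV).hom.toAlgebra
  haveI : Algebra.FiniteType Γ(Y, V) Γ(X, W) :=
    LocallyOfFiniteType.finiteType_appLE f hV hW hWV
  obtain ⟨a, ha, hfree⟩ :=
    (goodRing_of_finiteType' Γ(Y, V) Γ(X, W) Γ(X, W)).exists_free
  refine ⟨a, ha, fun x hxW hxa => ?_⟩
  rw [Groth.Agent.Lib.Helper4.RelEffCartierFlat1.flat_stalkMap_iff f V hV W hW hWV hxW]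
  haveI := (hW.primeIdealOf ⟨x, hxW⟩).isPrime
  refine (Groth.Agent.Lead.FlatLoc.flat_localRingHom_iff (f.appLE V W hWV).hom
    (hW.primeIdealOf ⟨x, hxW⟩).asIdeal).mpr ?_
  have haS : algebraMap Γ(Y, V) Γ(X, W) a ∈ (hW.primeIdealOf ⟨x, hxW⟩).asIdeal.primeCompl := by
    intro hmem
    have h1 : x ∈ X.basicOpen ((f.appLE V W hWV).hom a) := by
      rw [Scheme.Hom.appLE]
      simp only [CommRingCat.hom_comp, RingHom.comp_apply]
      erw [Scheme.basicOpen_res]
      exact ⟨hxW, by rw [← Scheme.preimage_basicOpen]; exact hxa⟩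
    have h2 : hW.fromSpec (hW.primeIdealOf ⟨x, hxW⟩) ∈ X.basicOpen ((f.appLE V W hWV).hom a) := by
      rw [hW.fromSpec_primeIdealOf ⟨x, hxW⟩]
      exact h1
    have h3 : hW.primeIdealOf ⟨x, hxW⟩ ∈
        hW.fromSpec ⁻¹ᵁ X.basicOpen ((f.appLE V W hWV).hom a) := h2
    rw [hW.fromSpec_preimage_basicOpen] at h3
    exact h3 hmem
  exact Groth.Agent.Helper7.GenFlat.flat_of_isLocalizedModule_of_free_away a hfree
    (hW.primeIdealOf ⟨x, hxW⟩).asIdeal.primeCompl haS
    (LocalizedModule.mkLinearMap (hW.primeIdealOf ⟨x, hxW⟩).asIdeal.primeCompl Γ(X, W))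

/-- **generic flatness** for a quasi-compact morphism locally of finite type to an integral
scheme, in terms of the maps on stalks. -/
theorem exists_open_flat_stalkMap {X Y : Scheme.{u}} (f : X ⟶ Y) [IsIntegral Y]
    [LocallyOfFiniteType f] [QuasiCompact f] :
    ∃ U : Y.Opens, genericPoint Y ∈ U ∧ ∀ x : X, f x ∈ U → (f.stalkMap x).hom.Flat := by
  classical
  obtain ⟨V, hV, hyV⟩ : ∃ V : Y.Opens, IsAffineOpen V ∧ genericPoint Y ∈ V := by
    obtain ⟨_, ⟨V, hV, rfl⟩, hy, -⟩ := (Y.isBasis_affineOpens).exists_subset_of_mem_open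
      (Set.mem_univ (genericPoint Y)) isOpen_univ
    exact ⟨V, hV, hy⟩
  haveI : Nonempty V := ⟨⟨_, hyV⟩⟩
  haveI : IsDomain Γ(Y, V) := inferInstance
  have hcomp : IsCompact ((f ⁻¹ᵁ V : X.Opens) : Set X) :=
    QuasiCompact.isCompact_preimage (f := f) _ V.isOpen hV.isCompact
  obtain ⟨t, ht1, ht2⟩ :=
    Groth.Agent.Helper7.FinType.exists_finset_affine_cover (f ⁻¹ᵁ V) hcomp
  have hex : ∀ W : t, ∃ a : Γ(Y, V), a ≠ 0 ∧ ∀ x : X, x ∈ W.1 → f x ∈ Y.basicOpen a →
      (f.stalkMap x).hom.Flat := fun W =>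
    exists_ne_zero_forall_flat_stalkMap f (ht1 W.1 W.2).1 hV (ht1 W.1 W.2).2
  choose a ha hflat using hex
  have hA : (∏ W : t, a W) ≠ 0 := Finset.prod_ne_zero_iff.mpr (fun W _ => ha W)
  have hne : ((Y.basicOpen (∏ W : t, a W) : Y.Opens) : Set Y).Nonempty := by
    by_contra hne
    have h0 : Y.basicOpen (∏ W : t, a W) = ⊥ := by
      rw [← Opens.not_nonempty_iff_eq_bot]
      exact hne
    exact hA ((basicOpen_eq_bot_iff _).mp h0)
  refine ⟨Y.basicOpen (∏ W : t, a W), ?_, ?_⟩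
  · obtain ⟨y, hy⟩ := hne
    exact ((genericPoint_spec Y).mem_open_set_iff (Y.basicOpen _).isOpen).mpr ⟨y, trivial, hy⟩
  · intro x hx
    have hxV : f x ∈ V := Y.basicOpen_le _ hx
    obtain ⟨W, hWt, hxW⟩ := ht2 x hxV
    refine hflat ⟨W, hWt⟩ x hxW ?_
    have hdvd : a ⟨W, hWt⟩ ∣ ∏ W : t, a W :=
      Finset.dvd_prod_of_mem _ (Finset.mem_univ _)
    obtain ⟨c, hc⟩ := hdvd
    rw [hc, Scheme.basicOpen_mul] at hx
    exact hx.1

end Groth.Agent.Helper7.FibEt
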