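import Mathlib
import Groth.Agent.Lib.Helper7.FibEt.Flat
import Groth.Agent.Lib.Helper7.FibProper.Fin
import Groth.Agent.Lib.Lead.CritFib21

set_option autoImplicit false
set_option linter.style.haveILetI false
set_option linter.unusedVariables false
set_option linter.unusedSectionVars false
set_option backward.isDefEq.respectTransparency.types false

open CategoryTheory CategoryTheory.Limits AlgebraicGeometry Opposite Topology TopologicalSpace

universe u

/-! helper7: the loci where the morphism of fibres is smooth, formally unramified, étale, an open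
immersion or an isomorphism are locally constructible (EGA IV 9.6.1, 17.7.11): by the fibrewise
criterion of smoothness over the flat locus, generic flatness and Chevalley's theorem. -/

namespace Groth.Agent.Helper7.FibEt

open Groth.Agent.Helper7.ConsMor Groth.Agent.Helper7.FibTop Groth.Agent.Helper7

section Smooth

variable {X Y S : Scheme.{u}} (f : X ⟶ Y) (g : Y ⟶ S)

/-- smoothness of the morphism of fibres over a point above which the source is flat over the
base: the fibre of the source lies in the smooth locus. -/
theorem smooth_fiberMap_iff [LocallyOfFinitePresentation g]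
    [LocallyOfFinitePresentation (f ≫ g)] [LocallyOfFinitePresentation f] (s : S)
    (hflat : ∀ x : X, (f ≫ g) x = s → ((f ≫ g).stalkMap x).hom.Flat) :
    Smooth (MoreMor.fiberMap f g s) ↔ s ∉ (f ≫ g) '' ((f.smoothLocus : Set X)ᶜ) := by
  haveI : LocallyOfFinitePresentation (MoreMor.fiberMap f g s) :=
    Groth.Agent.Lead.CritFib.locallyOfFinitePresentation_fiberMap f g s
  have hmem : ∀ x' : (f ≫ g).fiber s, (f ≫ g) ((f ≫ g).fiberι s x') = s := by
    intro x'
    have h1 : (f ≫ g).fiberι s x' ∈ Set.range ((f ≫ g).fiberι s) := ⟨x', rfl⟩
    rw [Scheme.Hom.range_fiberι] at h1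
    exact h1
  rw [← Scheme.Hom.smoothLocus_eq_top_iff]
  constructor
  · rintro htop ⟨x, hx, hxs⟩
    have h1 : x ∈ Set.range ((f ≫ g).fiberι s) := by
      rw [Scheme.Hom.range_fiberι]; exact hxs
    obtain ⟨x', rfl⟩ := h1
    apply hx
    refine (Groth.Agent.Lead.CritFib.mem_smoothLocus_fiberMap_iff f g s x' (hflat _ hxs)).mp ?_
    rw [htop]
    trivial
  · intro hs
    rw [eq_top_iff]
    intro x' _
    refine (Groth.Agent.Lead.CritFib.mem_smoothLocus_fiberMap_iff f g s x'
      (hflat _ (hmem x'))).mpr ?_
    by_contra hx
    exact hs ⟨_, hx, hmem x'⟩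

end Smooth

section Cons

/-- smoothness of the morphism of fibres is a constructible relation on morphisms. -/
theorem isConsMor_smooth :
    ConsProp.IsConsMor (MorProp (@Smooth : MorphismProperty Scheme.{u})) := by
  refine ⟨isFieldStableMor_of_descendsAlong _ inferInstance, ?_⟩
  intro X Y S f g _ _ _ _ _ _
  have : IsLocallyNoetherian Y := LocallyOfFiniteType.isLocallyNoetherian g
  have : IsLocallyNoetherian X := LocallyOfFiniteType.isLocallyNoetherian (f ≫ g)
  haveI : CompactSpace X := QuasiCompact.compactSpace_of_compactSpace (f ≫ g)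
  haveI : IsNoetherian X := {}
  haveI : LocallyOfFinitePresentation f :=
    Groth.Agent.Helper2.locallyOfFinitePresentation_of_comp f g inferInstance inferInstance
  obtain ⟨V, hηV, hV⟩ := exists_open_flat_stalkMap (f ≫ g)
  have hC : IsConstructible ((f ≫ g) '' ((f.smoothLocus : Set X)ᶜ)) :=
    (f ≫ g).isConstructible_image
      (Groth.Agent.Helper1.ConstrL.isConstructible_of_isLocallyClosed
        f.smoothLocus.isOpen.isClosed_compl.isLocallyClosed)
  exact generic_of_eq_on_open hC V hηV fun s hs =>
    smooth_fiberMap_iff f g s fun x hx => hV x (by rw [hx]; exact hs)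

variable {X Y S : Scheme.{u}} (f : X ⟶ Y) (g : Y ⟶ S)

/-- the two forms of the morphism of fibres agree up to an isomorphism of the source. -/
theorem prop_snd_iff (Q : MorphismProperty Scheme.{u}) [Q.RespectsIso] (s : S) :
    Q (pullback.snd f (g.fiberι s)) ↔ Q (MoreMor.fiberMap f g s) := by
  have h := isPullback_fiberMap f g s
  rw [← h.isoPullback_hom_snd]
  exact (Q.cancel_left_of_respectsIso _ _).symm

/-- the locus where the morphism of fibres is smooth is locally constructible. -/
theorem isLocallyConstructible_setOf_smooth
    [LocallyOfFinitePresentation g] [QuasiCompact g] [QuasiSeparated g]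
    [LocallyOfFinitePresentation (f ≫ g)] [QuasiCompact (f ≫ g)] [QuasiSeparated (f ≫ g)] :
    IsLocallyConstructible {s : S | Smooth (pullback.snd f (g.fiberι s))} := by
  have e : {s : S | Smooth (pullback.snd f (g.fiberι s))} =
      ConsProp.locusMor (MorProp (@Smooth : MorphismProperty Scheme.{u})) f g := by
    ext s
    exact prop_snd_iff f g @Smooth s
  rw [e]
  exact isLocallyConstructible_locusMor isConsMor_smooth f g

end Cons

section Unram

variable {X Y S : Scheme.{u}} (f : X ⟶ Y) (g : Y ⟶ S)

/-- a property local at the source holds as soon as it holds near every point. -/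
theorem of_forall_exists_nhd (P : MorphismProperty Scheme.{u}) [IsZariskiLocalAtSource P]
    {A B : Scheme.{u}} (φ : A ⟶ B) (h : ∀ x : A, ∃ U : A.Opens, x ∈ U ∧ P (U.ι ≫ φ)) : P φ := by
  choose U hxU hU using h
  refine (IsZariskiLocalAtSource.iff_of_iSup_eq_top (P := P) U ?_).mpr hU
  rw [eq_top_iff]
  intro x _
  exact TopologicalSpace.Opens.mem_iSup.mpr ⟨x, hxU x⟩

/-- the set of points near which a morphism is formally unramified. -/
def unramLocus : Set X := {x | ∃ U : X.Opens, x ∈ U ∧ FormallyUnramified (U.ι ≫ f)}

theorem isOpen_unramLocus : IsOpen (unramLocus f) := by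
  rw [isOpen_iff_forall_mem_open]
  rintro x ⟨U, hxU, hU⟩
  exact ⟨U, fun y hy => ⟨U, hy, hU⟩, U.2, hxU⟩

/-- the morphism of fibres over a point is formally unramified exactly when the fibre of the
source lies in the unramified locus. -/
theorem formallyUnramified_fiberMap_iff [LocallyOfFiniteType f] (s : S) :
    FormallyUnramified (MoreMor.fiberMap f g s) ↔ s ∉ (f ≫ g) '' (unramLocus f)ᶜ := by
  have hmem : ∀ x' : (f ≫ g).fiber s, (f ≫ g) ((f ≫ g).fiberι s x') = s := by
    intro x'
    have h1 : (f ≫ g).fiberι s x' ∈ Set.range ((f ≫ g).fiberι s) := ⟨x', rfl⟩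
    rw [Scheme.Hom.range_fiberι] at h1
    exact h1
  constructor
  · rintro hfu ⟨x, hx, hxs⟩
    have h1 : x ∈ Set.range ((f ≫ g).fiberι s) := by
      rw [Scheme.Hom.range_fiberι]; exact hxs
    obtain ⟨x', rfl⟩ := h1
    apply hx
    have htop : FormallyUnramified ((⊤ : ((f ≫ g).fiber s).Opens).ι ≫ MoreMor.fiberMap f g s) :=
      MorphismProperty.comp_mem @FormallyUnramified _ _ inferInstance hfu
    exact Groth.Agent.Lib.Helper6.EtLoc.formallyUnramified_of_local_isPullback f (g.fiberι s)
      (MoreMor.fiberMap f g s) ((f ≫ g).fiberι s) (isPullback_fiberMap f g s) ⊤ htop x' trivial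
  · intro hs
    refine of_forall_exists_nhd @FormallyUnramified _ fun x' => ?_
    have hx : (f ≫ g).fiberι s x' ∈ unramLocus f := by
      by_contra h
      exact hs ⟨_, h, hmem x'⟩
    obtain ⟨U, hxU, hU⟩ := hx
    refine ⟨((f ≫ g).fiberι s) ⁻¹ᵁ U, hxU, ?_⟩
    exact MorphismProperty.of_isPullback (P := @FormallyUnramified)
      ((isPullback_morphismRestrict ((f ≫ g).fiberι s) U).paste_vert
        (isPullback_fiberMap f g s)) hU

end Unram

section Cons2

/-- formal unramifiedness of the morphism of fibres is a constructible relation on morphisms. -/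
theorem isConsMor_formallyUnramified :
    ConsProp.IsConsMor (MorProp (@FormallyUnramified : MorphismProperty Scheme.{u})) := by
  refine ⟨isFieldStableMor_of_descendsAlong _ inferInstance, ?_⟩
  intro X Y S f g _ _ _ _ _ _
  have : IsLocallyNoetherian Y := LocallyOfFiniteType.isLocallyNoetherian g
  have : IsLocallyNoetherian X := LocallyOfFiniteType.isLocallyNoetherian (f ≫ g)
  haveI : CompactSpace X := QuasiCompact.compactSpace_of_compactSpace (f ≫ g)
  haveI : IsNoetherian X := {}
  haveI : LocallyOfFiniteType f := locallyOfFiniteType_of_comp f g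
  have hC : IsConstructible ((f ≫ g) '' (unramLocus f)ᶜ) :=
    (f ≫ g).isConstructible_image
      (Groth.Agent.Helper1.ConstrL.isConstructible_of_isLocallyClosed
        (isOpen_unramLocus f).isClosed_compl.isLocallyClosed)
  have hη : genericPoint S ∈ (⊤ : S.Opens) := trivial
  exact generic_of_eq_on_open hC ⊤ hη fun s _ => formallyUnramified_fiberMap_iff f g s

variable {X Y S : Scheme.{u}} (f : X ⟶ Y) (g : Y ⟶ S)
  [LocallyOfFinitePresentation g] [QuasiCompact g] [QuasiSeparated g]
  [LocallyOfFinitePresentation (f ≫ g)] [QuasiCompact (f ≫ g)] [QuasiSeparated (f ≫ g)]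

/-- the locus where the morphism of fibres is formally unramified is locally constructible. -/
theorem isLocallyConstructible_setOf_formallyUnramified :
    IsLocallyConstructible {s : S | FormallyUnramified (pullback.snd f (g.fiberι s))} := by
  have e : {s : S | FormallyUnramified (pullback.snd f (g.fiberι s))} =
      ConsProp.locusMor (MorProp (@FormallyUnramified : MorphismProperty Scheme.{u})) f g := by
    ext s
    exact prop_snd_iff f g @FormallyUnramified s
  rw [e]
  exact isLocallyConstructible_locusMor isConsMor_formallyUnramified f g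

theorem etale_iff_smooth_and_formallyUnramified {A B : Scheme.{u}} (φ : A ⟶ B) :
    Etale φ ↔ Smooth φ ∧ FormallyUnramified φ := by
  constructor
  · intro h
    exact ⟨inferInstance, inferInstance⟩
  · rintro ⟨h1, h2⟩
    exact Etale.of_formallyUnramified_of_flat φ

/-- the locus where the morphism of fibres is étale is locally constructible. -/
theorem isLocallyConstructible_setOf_etale :
    IsLocallyConstructible {s : S | Etale (pullback.snd f (g.fiberι s))} := by
  have e : {s : S | Etale (pullback.snd f (g.fiberι s))} =
      {s : S | Smooth (pullback.snd f (g.fiberι s))} ∩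
        {s : S | FormallyUnramified (pullback.snd f (g.fiberι s))} := by
    ext s
    exact etale_iff_smooth_and_formallyUnramified _
  rw [e]
  exact (isLocallyConstructible_setOf_smooth f g).inter
    (isLocallyConstructible_setOf_formallyUnramified f g)

end Cons2

section OpenImm

/-- open immersions are the étale universally injective morphisms. -/
theorem isOpenImmersion_iff_etale_and_universallyInjective {A B : Scheme.{u}} (φ : A ⟶ B) :
    IsOpenImmersion φ ↔ Etale φ ∧ UniversallyInjective φ := by
  constructor
  · intro h
    exact ⟨inferInstance, inferInstance⟩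
  · rintro ⟨h1, h2⟩
    haveI : Surjective (pullback.diagonal φ) := (UniversallyInjective.iff_diagonal φ).mp h2
    haveI : IsIso (pullback.diagonal φ) :=
      (isIso_iff_isOpenImmersion_and_surjective _).mpr ⟨inferInstance, inferInstance⟩
    haveI : Mono φ := (pullback.isIso_diagonal_iff φ).mp inferInstance
    exact IsOpenImmersion.of_flat_of_mono φ

variable {X Y S : Scheme.{u}} (f : X ⟶ Y) (g : Y ⟶ S)
  [LocallyOfFinitePresentation g] [QuasiCompact g] [QuasiSeparated g]
  [LocallyOfFinitePresentation (f ≫ g)] [QuasiCompact (f ≫ g)] [QuasiSeparated (f ≫ g)]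

/-- EGA IV 9.6.1: the locus where the morphism of fibres is an open immersion is locally
constructible. -/
theorem isLocallyConstructible_setOf_isOpenImmersion :
    IsLocallyConstructible {s : S | IsOpenImmersion (FibSurj.fibMap f g s)} := by
  have e : {s : S | IsOpenImmersion (FibSurj.fibMap f g s)} =
      {s : S | Etale (pullback.snd f (g.fiberι s))} ∩
        {s : S | UniversallyInjective (FibSurj.fibMap f g s)} := by
    ext s
    have h1 : Etale (pullback.snd f (g.fiberι s)) ↔ Etale (FibSurj.fibMap f g s) :=
      prop_snd_iff f g @Etale s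
    show IsOpenImmersion (FibSurj.fibMap f g s) ↔
      Etale (pullback.snd f (g.fiberι s)) ∧ UniversallyInjective (FibSurj.fibMap f g s)
    rw [h1]
    exact isOpenImmersion_iff_etale_and_universallyInjective _
  rw [e]
  exact (isLocallyConstructible_setOf_etale f g).inter
    (FibSurj.isLocallyConstructible_setOf_universallyInjective f g)

/-- EGA IV 9.6.1: the locus where the morphism of fibres is an isomorphism is locally
constructible. -/
theorem isLocallyConstructible_setOf_isIso :
    IsLocallyConstructible {s : S | IsIso (FibSurj.fibMap f g s)} := by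
  have e : {s : S | IsIso (FibSurj.fibMap f g s)} =
      {s : S | IsOpenImmersion (FibSurj.fibMap f g s)} ∩
        {s : S | Function.Surjective (FibSurj.fibMap f g s).base} := by
    ext s
    show IsIso (FibSurj.fibMap f g s) ↔
      IsOpenImmersion (FibSurj.fibMap f g s) ∧ Function.Surjective (FibSurj.fibMap f g s).base
    rw [isIso_iff_isOpenImmersion_and_surjective, surjective_iff]
  rw [e]
  exact (isLocallyConstructible_setOf_isOpenImmersion f g).inter
    (FibSurj.isLocallyConstructible_setOf_surjective f g)

end OpenImm

end Groth.Agent.Helper7.FibEt
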